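-- Chain check for Fi24C, part L0C0.
import Cfsg.Agent.Lib.Compute.TC.Fi24C.Data
import Cfsg.Agent.Lib.Compute.TCSplit
set_option autoImplicit false
set_option maxRecDepth 1000000

open Cfsg.Agent.Lib.Compute.TCSplit
open Cfsg.Agent.Lib.Compute.ToddCoxeterCore Cfsg.Agent.Lib.Compute.ToddCoxeterPresented Cfsg.Agent.Lib.Compute.TCFast Cfsg.Agent.Lib.Compute.TCChain

namespace Cfsg.Agent.Lib.Compute.TC.Fi24C

theorem l0c0x0 : allFrom (lv0.chkPos evL0 (nat_lit 306936)) (nat_lit 45878) (nat_lit 0) = true := by decide +kernel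
theorem l0c0x1 : allFrom (lv0.chkPos evL0 (nat_lit 306936)) (nat_lit 45878) (nat_lit 45878) = true := by decide +kernel
theorem l0c0x2 : allFrom (lv0.chkPos evL0 (nat_lit 306936)) (nat_lit 45877) (nat_lit 91756) = true := by decide +kernel
theorem l0c0x3 : allFrom (lv0.chkPos evL0 (nat_lit 306936)) (nat_lit 45877) (nat_lit 137633) = true := by decide +kernel
theorem l0c0x4 : allFrom (lv0.chkPos evL0 (nat_lit 306936)) (nat_lit 45877) (nat_lit 183510) = true := by decide +kernel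
theorem l0c0x5 : allFrom (lv0.chkPos evL0 (nat_lit 306936)) (nat_lit 45877) (nat_lit 229387) = true := by decide +kernel
theorem l0c0c1 : allFrom (lv0.chkPos evL0 (nat_lit 306936)) (nat_lit 91756) (nat_lit 0) = true := join l0c0x0 l0c0x1 rfl rfl
theorem l0c0c2 : allFrom (lv0.chkPos evL0 (nat_lit 306936)) (nat_lit 137633) (nat_lit 0) = true := join l0c0c1 l0c0x2 rfl rfl
theorem l0c0c3 : allFrom (lv0.chkPos evL0 (nat_lit 306936)) (nat_lit 183510) (nat_lit 0) = true := join l0c0c2 l0c0x3 rfl rfl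
theorem l0c0c4 : allFrom (lv0.chkPos evL0 (nat_lit 306936)) (nat_lit 229387) (nat_lit 0) = true := join l0c0c3 l0c0x4 rfl rfl
theorem l0c0 : allFrom (lv0.chkPos evL0 (nat_lit 306936)) (nat_lit 275264) (nat_lit 0) = true := join l0c0c4 l0c0x5 rfl rfl

end Cfsg.Agent.Lib.Compute.TC.Fi24C
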