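-- Stabilizer chain for Fi24C: assembly.
import Cfsg.Agent.Lib.Compute.TC.Fi24C.L0C0
import Cfsg.Agent.Lib.Compute.TC.Fi24C.L1C0
import Cfsg.Agent.Lib.Compute.TC.Fi24C.L1C1
import Cfsg.Agent.Lib.Compute.TC.Fi24C.L1C2
import Cfsg.Agent.Lib.Compute.TC.Fi24C.L1C3
import Cfsg.Agent.Lib.Compute.TC.Fi24C.L1C4
import Cfsg.Agent.Lib.Compute.TC.Fi24C.L1C5
import Cfsg.Agent.Lib.Compute.TC.Fi24C.L1C6
import Cfsg.Agent.Lib.Compute.TC.Fi24C.L1C7
import Cfsg.Agent.Lib.Compute.TC.Fi24C.L1C8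
import Cfsg.Agent.Lib.Compute.TC.Fi24C.L1C9
import Cfsg.Agent.Lib.Compute.TC.Fi24C.L1C10
import Cfsg.Agent.Lib.Compute.TC.Fi24C.L1C11
import Cfsg.Agent.Lib.Compute.TC.Fi24C.L1C12
import Cfsg.Agent.Lib.Compute.TC.Fi24C.L1C13
import Cfsg.Agent.Lib.Compute.TC.Fi24C.L1C14
import Cfsg.Agent.Lib.Compute.TC.Fi24C.L2C0
import Cfsg.Agent.Lib.Compute.TC.Fi24C.L2C1
import Cfsg.Agent.Lib.Compute.TC.Fi24C.L2C2
import Cfsg.Agent.Lib.Compute.TC.Fi24C.L2C3
import Cfsg.Agent.Lib.Compute.TC.Fi24C.L2C4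
import Cfsg.Agent.Lib.Compute.TC.Fi24C.L2C5
import Cfsg.Agent.Lib.Compute.TC.Fi24C.L2C6
import Cfsg.Agent.Lib.Compute.TC.Fi24C.L2C7
import Cfsg.Agent.Lib.Compute.TC.Fi24C.L2C8
import Cfsg.Agent.Lib.Compute.TC.Fi24C.L2C9
import Cfsg.Agent.Lib.Compute.TC.Fi24C.L2C10
import Cfsg.Agent.Lib.Compute.TC.Fi24C.L2C11
import Cfsg.Agent.Lib.Compute.TC.Fi24C.L2C12
import Cfsg.Agent.Lib.Compute.TC.Fi24C.L2C13
import Cfsg.Agent.Lib.Compute.TC.Fi24C.L2C14
import Cfsg.Agent.Lib.Compute.TC.Fi24C.L2C15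
import Cfsg.Agent.Lib.Compute.TC.Fi24C.L2C16
import Cfsg.Agent.Lib.Compute.TC.Fi24C.L2C17
import Cfsg.Agent.Lib.Compute.TC.Fi24C.L2C18
import Cfsg.Agent.Lib.Compute.TC.Fi24C.L2C19
import Cfsg.Agent.Lib.Compute.TC.Fi24C.L2C20
import Cfsg.Agent.Lib.Compute.TC.Fi24C.L2C21
import Cfsg.Agent.Lib.Compute.TC.Fi24C.L2C22
import Cfsg.Agent.Lib.Compute.TC.Fi24C.L2C23
import Cfsg.Agent.Lib.Compute.TC.Fi24C.L2C24
import Cfsg.Agent.Lib.Compute.TC.Fi24C.L2C25
import Cfsg.Agent.Lib.Compute.TC.Fi24C.L2C26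
import Cfsg.Agent.Lib.Compute.TC.Fi24C.L3C0
import Cfsg.Agent.Lib.Compute.TC.Fi24C.L3C1
set_option autoImplicit false
set_option maxRecDepth 1000000

open Cfsg.Agent.Lib.Compute.ToddCoxeterCore Cfsg.Agent.Lib.Compute.ToddCoxeterPresented Cfsg.Agent.Lib.Compute.TCFast Cfsg.Agent.Lib.Compute.TCChain

namespace Cfsg.Agent.Lib.Compute.TC.Fi24C

theorem lv0ok : lv0.chk evL0 (nat_lit 306936) = true :=
  Lvl.chk_of (by decide +kernel)
    (allFrom_of_forall (by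
      have h := allFrom_chain (allFrom_nil (lv0.chkPos evL0 (nat_lit 306936)) (nat_lit 0)) l0c0 (c := 275264) rfl
      simpa [lv0] using h))
    (by decide +kernel)

theorem lv1ok : lv1.chk evL1 (nat_lit 306936) = true :=
  Lvl.chk_of (by decide +kernel)
    (allFrom_of_forall (by
      have h := allFrom_chain (allFrom_chain (allFrom_chain (allFrom_chain (allFrom_chain (allFrom_chain (allFrom_chain (allFrom_chain (allFrom_chain (allFrom_chain (allFrom_chain (allFrom_chain (allFrom_chain (allFrom_chain (allFrom_chain (allFrom_nil (lv1.chkPos evL1 (nat_lit 306936)) (nat_lit 0)) l1c0 (c := 15244) rfl) l1c1 (c := 30439) rfl) l1c2 (c := 45516) rfl) l1c3 (c := 60547) rfl) l1c4 (c := 75778) rfl) l1c5 (c := 90874) rfl) l1c6 (c := 105857) rfl) l1c7 (c := 121003) rfl) l1c8 (c := 136106) rfl) l1c9 (c := 151250) rfl) l1c10 (c := 166388) rfl) l1c11 (c := 181455) rfl) l1c12 (c := 196601) rfl) l1c13 (c := 211428) rfl)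 l1c14 (c := 218400) rfl
      simpa [lv1] using h))
    (by decide +kernel)

theorem lv2ok : lv2.chk evL2 (nat_lit 306936) = true :=
  Lvl.chk_of (by decide +kernel)
    (allFrom_of_forall (by
      have h := allFrom_chain (allFrom_chain (allFrom_chain (allFrom_chain (allFrom_chain (allFrom_chain (allFrom_chain (allFrom_chain (allFrom_chain (allFrom_chain (allFrom_chain (allFrom_chain (allFrom_chain (allFrom_chain (allFrom_chain (allFrom_chain (allFrom_chain (allFrom_chain (allFrom_chain (allFrom_chain (allFrom_chain (allFrom_chain (allFrom_chain (allFrom_chain (allFrom_chain (allFrom_chain (allFrom_chain (allFrom_nil (lv2.chkPos evL2 (nat_lit 306936)) (nat_lit 0)) l2c0 (c := 3546) rfl) l2c1 (c := 7035) rfl) l2c2 (c := 10468) rfl) l2c3 (c := 13918) rfl) l2c4 (c := 17459) rfl) l2c5 (c := 21001) rfl) l2c6 (c := 24505) rfl) l2c7 (c := 28043) rfl) l2c8 (c := 31501) rfl) l2c9 (c := 34942) rfl) l2c10 (c := 38469)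 rfl) l2c11 (c := 41986) rfl) l2c12 (c := 45453) rfl) l2c13 (c := 48967) rfl) l2c14 (c := 52494) rfl) l2c15 (c := 55947) rfl) l2c16 (c := 59404) rfl) l2c17 (c := 62933) rfl) l2c18 (c := 66395) rfl) l2c19 (c := 69806) rfl) l2c20 (c := 73286) rfl) l2c21 (c := 76754) rfl) l2c22 (c := 80228) rfl) l2c23 (c := 83732) rfl) l2c24 (c := 87181) rfl) l2c25 (c := 90683) rfl) l2c26 (c := 93312) rfl
      simpa [lv2] using h))
    (by decide +kernel)

theorem lv3ok : lv3.chk evL3 (nat_lit 306936) = true :=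
  Lvl.chk_of (by decide +kernel)
    (allFrom_of_forall (by
      have h := allFrom_chain (allFrom_chain (allFrom_nil (lv3.chkPos evL3 (nat_lit 306936)) (nat_lit 0)) l3c0 (c := 943) rfl) l3c1 (c := 1458) rfl
      simpa [lv3] using h))
    (by decide +kernel)

theorem chainOK' : chainChk (nat_lit 306936) ls evL0 = true :=
  chainChk_cons lv0ok (chainChk_cons lv1ok (chainChk_cons lv2ok (chainChk_cons lv3ok (chainChk_nil))))

theorem chainOK : chainChk Cfsg.Agent.Lib.Compute.TC.Fi24a.cfg.N ls (evN (ev0 Cfsg.Agent.Lib.Compute.TC.Fi24a.cfg) next0) = true := by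
  rw [N_eq]
  exact chainOK'

end Cfsg.Agent.Lib.Compute.TC.Fi24C
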