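-- An element of order 29 and the derivation of a product of two generators from it, in the action on the table of Fi24a.
import Cfsg.Agent.Lib.Compute.TC.Fi24C.Chain
set_option autoImplicit false
set_option maxRecDepth 1000000

open Cfsg.Agent.Lib.Compute.ToddCoxeterCore Cfsg.Agent.Lib.Compute.ToddCoxeterPresented Cfsg.Agent.Lib.Compute.TCFast Cfsg.Agent.Lib.Compute.TCChain

namespace Cfsg.Agent.Lib.Compute.TC.Fi24C

def p2 : PE := .mul (PE.lt (nat_lit 3)) (PE.lt (nat_lit 6))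
def p4 : PE := .mul (PE.lt (nat_lit 9)) p2
def p6 : PE := .mul (PE.lt (nat_lit 11)) p4
def p8 : PE := .mul (PE.lt (nat_lit 7)) p6
def p10 : PE := .mul (PE.lt (nat_lit 2)) p8
def p12 : PE := .mul (PE.lt (nat_lit 0)) p10
def p14 : PE := .mul (PE.lt (nat_lit 10)) p12
def p16 : PE := .mul (PE.lt (nat_lit 8)) p14
def p18 : PE := .mul (PE.lt (nat_lit 5)) p16
def p19 : PE := .mul (PE.lt (nat_lit 3)) p18
def p21 : PE := .mul (PE.lt (nat_lit 4)) p19
def p22 : PE := .mul (PE.lt (nat_lit 6)) p21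
def p23 : PE := .mul (PE.lt (nat_lit 11)) p22
def p24 : PE := .mul (PE.lt (nat_lit 0)) p23
def p25 : PE := .mul (PE.lt (nat_lit 3)) p24
def p26 : PE := .mul (PE.lt (nat_lit 5)) p25
def p27 : PE := .mul (PE.lt (nat_lit 10)) p26
def p28 : PE := .mul (PE.lt (nat_lit 6)) p27
def p29 : PE := .mul (PE.lt (nat_lit 8)) p28
def p30 : PE := .mul (PE.lt (nat_lit 0)) p29
def p32 : PE := .mul (PE.lt (nat_lit 1)) p30
def p33 : PE := .mul (PE.lt (nat_lit 5)) p32
def p34 : PE := .mul (PE.lt (nat_lit 3)) p33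
def p35 : PE := .mul (PE.lt (nat_lit 4)) p34
def p36 : PE := .mul (PE.lt (nat_lit 0)) p35
def p37 : PE := .mul (PE.lt (nat_lit 7)) p36
def p38 : PE := .mul (PE.lt (nat_lit 0)) p37
def p39 : PE := .mul (PE.lt (nat_lit 3)) p38
def p40 : PE := .mul (PE.lt (nat_lit 8)) p39
def p46 : PE := .mul (PE.lt (nat_lit 10)) (PE.lt (nat_lit 5))
def p47 : PE := .mul (PE.lt (nat_lit 7)) p46
def p48 : PE := .mul (PE.lt (nat_lit 4)) p47
def p49 : PE := .mul (PE.lt (nat_lit 6)) p48
def p50 : PE := .mul (PE.lt (nat_lit 5)) p49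
def p51 : PE := .mul (PE.lt (nat_lit 1)) p50
def p52 : PE := .mul (PE.lt (nat_lit 4)) p51
def p41 : PE := .inv p40
def p42 : PE := .mul (PE.lt (nat_lit 8)) p41
def p43 : PE := .inv (PE.lt (nat_lit 8))
def p44 : PE := .mul p42 p43
def p45 : PE := .mul p40 p44
def p53 : PE := .mul p52 p45
def p54 : PE := .inv p52
def p55 : PE := .mul p53 p54
def p56 : PE := .mul (PE.lt (nat_lit 2)) (PE.lt (nat_lit 4))
def p57 : PE := .mul p55 p56
def p58 : PE := .mul p57 p52

/-- the element of prime order -/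
noncomputable def rr : PE := p40

def d1 : Dv := .inv Dv.base
def d2 : Dv := .conj (PE.lt (nat_lit 8)) d1
def d3 : Dv := .mul Dv.base d2
def d4 : Dv := .conj p58 d3

/-- the derivation -/
noncomputable def dv : Dv := d4

/-- a moved point -/
def x0 : ℕ := 0

theorem rPow : eqOn (ev0 Cfsg.Agent.Lib.Compute.TC.Fi24a.cfg) (rr.pw (29 ^ 1)) .one (0 :: ls.map (·.b)) = true := by decide +kernel

theorem rNe : PE.ev (ev0 Cfsg.Agent.Lib.Compute.TC.Fi24a.cfg) rr true x0 ≠ x0 := by decide +kernel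

theorem dvOK : eqOn (ev0 Cfsg.Agent.Lib.Compute.TC.Fi24a.cfg) (dv.toPE rr) (.mul (.lt (nat_lit 2)) (.lt (nat_lit 4))) (0 :: ls.map (·.b)) = true := by decide +kernel

end Cfsg.Agent.Lib.Compute.TC.Fi24C
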